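import Cfsg.Agent.H533.U.SecFacts
import Cfsg.Agent.H809.Pi.IsoU

/-!
# S4324, PSU: the row of noncyclic Sylow subgroups (helper533)

`nr_psu` : `NR t K` for `K ≅ PSU_n(q)`, `q` a power of `t`.
-/

set_option autoImplicit false

namespace Cfsg.Agent.H533.U

open Cfsg Cfsg.Agent.H216.Pi

universe u

theorem secHyp : SecHyp := by
  intro F _ _ n q t s e _ hF hn _ _ hs hs3 _ he hN hd x θ g _ hg hi hPC
  refine ⟨?_, ?_, ?_⟩
  · intro W h1 h2 h3 h4 h5 h6
    exact hns_u hF hn hs hs3 he hd hPC hg hi W h1 h2 h3 h4 h5 h6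
  · intro W h1 h2 h3 h4
    exact Cfsg.Agent.H809.IsoU.hiso_u hF hn hs hs3 he hd hPC hg hi W h1 h2 h3 h4
  · intro hn4 hθ v hv hvv ha
    subst hθ
    exact hpt_u hF hn4 hs hs3 he hN hd hPC hg hi hv hvv ha

/-- **PSU, noncyclic Sylow subgroups** -/
theorem nr_psu {t : ℕ} (ht : t.Prime) {K : Type u} [Group K] [Finite K] (h : IsPSUChar t K) : NR t K :=
  nr_psu_of secHyp ht h

end Cfsg.Agent.H533.U
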