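import Cfsg.Agent.H533.U.Reg3
import Cfsg.Agent.H533.U.Semi
import Cfsg.Agent.H63.GU.Main
import Cfsg.Agent.H110.Fpr.Small
import Cfsg.Agent.H104.RowPSU

/-!
# S4324, PSU: the row of noncyclic Sylow subgroups, from the section facts (helper533)

`SecU` : the section facts of a lift; `false_of_sec` : they exclude `x`; `exists_exponent_u` : noncyclic Sylow subgroups;
`nr_psu_of` : `NR t K` for `K ≅ PSU_n(q)` from the section facts.
-/

set_option autoImplicit false

namespace Cfsg.Agent.H533.U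

open Cfsg Cfsg.Agent.LieClassical.HermBasic Cfsg.Agent.LieClassical.HermSiegel
open Cfsg.Agent.ClassicalGeometry.UnitAutBasic Cfsg.Agent.ClassicalGeometry.PSUAutCount
open Cfsg.Agent.H957.T5V Cfsg.Agent.H957.T5U Cfsg.Agent.H957.T5Pairs
open Cfsg.Agent.H177.MeetPSU (rho rho_apply rho_injective uniq ind_scal ind_yy yy yy_apply)
open Cfsg.Agent.H903.SylSemi (Ind scal scal_apply)
open Cfsg.Agent.H216.Pi (InC FC PC NR mm Scal)
open Cfsg.Agent.H63.GU (HForm PTs)
open Cfsg.Agent.H77.Geom (perp mem_perp_singleton)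
open Cfsg.Agent.H104 Cfsg.Agent.H104.TwoLines Cfsg.Agent.H104.RankBound Cfsg.Agent.H104.RowPSU
open Module

universe u

variable {F : Type} [Field F] [Fintype F] {n q t : ℕ}

/-- **The section facts** of a lift `g` (`e` with `s ∣ (-q) ^ e - 1`) -/
structure SecU (q e : ℕ) (θ : F ≃+* F) (g : Equiv.Perm (Fin n → F)) : Prop where
  hns : ∀ W : Submodule F (Fin n → F), (∀ u ∈ W, (∀ v ∈ W, hermForm n F q u v = 0) → u = 0) →
    (∀ v ∈ W, g v ∈ W) → W ≠ ⊤ → 2 ≤ finrank F W → e ≤ finrank F W →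
    (θ = 1 ∨ 3 ≤ finrank F W ∨ ∃ w ∈ W, hermForm n F q w w ≠ 0 ∧ ∃ a : F, g w = a • w) →
    ∃ a : F, ∀ v ∈ W, g v = a • v
  hiso : ∀ W : Submodule F (Fin n → F), (∀ u ∈ W, ∀ v ∈ W, hermForm n F q u v = 0) → (∀ v ∈ W, g v ∈ W) →
    2 ≤ finrank F W → e ≤ finrank F W → ∃ a : F, ∀ v ∈ W, g v = a • v
  hpt : 4 ≤ n → θ = 1 → ∀ v : Fin n → F, v ≠ 0 → hermForm n F q v v = 0 → (∃ a : F, g v = a • v) →
    PTs (hermForm n F q) g v

theorem hform (hF : Fintype.card F = q ^ 2) : HForm (conj hF) (hermForm n F q) where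
  add_left := herm_add_left
  smul_left := herm_smul_left
  symm := fun u v => by rw [conj_apply]; exact herm_swap hF u v
  nondeg := fun u h => herm_nondeg hF h

omit [Fintype F] in
theorem coe_pow_linear {V : Type*} [AddCommGroup V] [Module F V] {X : V ≃ₗ[F] V} {g : Equiv.Perm V}
    (h : ∀ v, X v = g v) (m : ℕ) (v : V) : (X ^ m) v = (g ^ m) v := by
  induction m generalizing v with
  | zero => rfl
  | succ m ih =>
    rw [pow_succ, pow_succ]
    show (X ^ m) (X v) = (g ^ m) (g v)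
    rw [ih, h]

/-- **The row for one element from the section facts.** -/
theorem false_of_sec (hF : Fintype.card F = q ^ 2) (hn : 3 ≤ n) (h32 : ¬ (n = 3 ∧ q = 2)) [CharP F t] (ht : t.Prime)
    {s : ℕ} (hs : s.Prime) (hs3 : 3 ≤ s) (hst : s ≠ t) (hsK : s ∣ Nat.card (PSU n F q)) {e : ℕ} (he : 1 ≤ e)
    (hN : 2 * e ≤ n) (h3 : n = 3 → s ∣ q + 1) {x : MulAut (PSU n F q)} (hp : (orderOf x).Prime)
    (hps : orderOf x ≠ s) (hPC : PC s x) (hFC : FC s 11 x) {θ : F ≃+* F} {g : Equiv.Perm (Fin n → F)}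
    (hg : SI q θ g) (hi : Ind (pr n F q) (rho n F q) g x) (hS : SecU q e θ g) : False := by
  have hx1 : x ≠ 1 := by
    rintro rfl
    rw [orderOf_one] at hp
    exact Nat.not_prime_one hp
  have hns := lift_not_scal hn hx1 hi
  have hgp := lift_pow hF hn hg hi
  have hθ : θ = 1 := semi_u hF hn hp hg hgp hN
    (fun W h1 h2 h3 h4 h5 h6 => hS.hns W h1 h2 h3 h4 h5 (Or.inr (Or.inr h6))) hS.hiso
  subst hθ
  obtain ⟨X, hX, -⟩ := exists_end hg.semi
  have hXg : ⇑X = ⇑g := funext hX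
  have hXc : ∀ u v, hermForm n F q (X u) (X v) = 1 * hermForm n F q u v := by
    intro u v
    rw [hX, hX, one_mul]
    exact hg.herm u v
  have hXp : Scal F ⇑(X ^ orderOf x) := by
    obtain ⟨l, hl⟩ := hgp
    exact ⟨l, fun v => by rw [coe_pow_linear hX, hl]⟩
  have hnsX : ¬ Scal F ⇑X := fun h => hns (by
    obtain ⟨a, ha⟩ := h
    exact ⟨a, fun v => by rw [← hX, ha]⟩)
  have hirr : (∀ W : Submodule F (Fin n → F), (∀ v ∈ W, X v ∈ W) → W = ⊥ ∨ W = ⊤) → False := by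
    intro h
    refine irr_u hF hn h32 ht hs hs3 hst hsK h3 hp hps hg hi (fun W hW => h W fun v hv => ?_) le_rfl hFC
    rw [hX]
    exact hW v hv
  have hcF : Nat.card F = q ^ 2 := by rw [Nat.card_eq_fintype_card, hF]
  rcases Nat.lt_or_ge n 4 with hn4 | hn4
  · obtain rfl : n = 3 := by omega
    rcases Cfsg.Agent.H63.GU.geo_su_three hcF (conj_apply hF) (hform hF) (t := t) hp X hXc hXp (by
        rw [finrank_fin_fun]) (fun v hv hv' => by
      obtain ⟨a, ha⟩ := hv'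
      rw [hX] at ha
      have hv0 : v ≠ 0 := by
        rintro rfl
        exact hv (herm_zero_left _)
      have hd := finrank_perp_one (q := q) hF hv0
      obtain ⟨b, hb⟩ := hS.hns (perp q {v}) (perp_nondeg hF hv) (perp_inv hF hg ha hv0) (perp_ne_top hv)
        (by omega) (by omega) (Or.inl rfl)
      refine ⟨b, fun w hw => ?_⟩
      rw [hX]
      exact hb w (mem_perp_singleton.2 (herm_eq_zero_swap hF hw))) with h | h | ⟨hpt, hp3, b, D, hb, hD, hD3, hD2⟩
    · exact hnsX h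
    · exact hirr h
    · exact reg3_u hF ht (hpt ▸ hp3) hs hs3 (h3 rfl) hp hps hg hi hb (fun v => by rw [← hX, hD]) hD3 hD2 hPC
  · rcases Cfsg.Agent.H63.GU.geo_su hcF (conj_apply hF) (hform hF) hp X hXc hXp he (by rwa [finrank_fin_fun]) (by
        rwa [finrank_fin_fun]) (fun W h1 h2 h4 h5 => by
      rw [hXg] at h2 ⊢
      exact hS.hiso W h1 h2 h4 h5) (fun v hv hvv ha => by
      rw [hXg] at ha ⊢
      exact hS.hpt hn4 rfl v hv hvv ha) (fun W h1 h2 h4 h5 h6 => by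
      rw [hXg] at h2 ⊢
      exact hS.hns W h1 h2 h4 h5 h6 (Or.inl rfl)) with h | h
    · exact hnsX h
    · exact hirr h

/-- noncyclic Sylow `s`-subgroups of `PSU_n(q)` -/
theorem exists_exponent_u (hF : Fintype.card F = q ^ 2) {s : ℕ} [hs : Fact s.Prime] (hs2 : s ≠ 2)
    (hsF : (s : F) ≠ 0) (P : Sylow s (PSU n F q)) (hP : ¬ IsCyclic P) :
    ∃ e : ℕ, 1 ≤ e ∧ 2 * e ≤ n ∧ (s : ℤ) ∣ (-(q : ℤ)) ^ e - 1 := by
  have hfin : Finite (SU n F q) := inferInstance
  obtain ⟨a, b, hab, ha, hb, hb1, hind⟩ := H110.Fpr.exists_rank_two hs2 (pr n F q) pr_surjective P hP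
  have hr : Rank2 s (SU n F q) := by
    refine ⟨b, a, hb, ha, hab.symm, hb1, ?_⟩
    intro h
    have h1 : a⁻¹ ∈ Subgroup.zpowers b := inv_mem h
    obtain ⟨i, hi⟩ := (isOfFinOrder_iff_pow_eq_one.2 ⟨s, hs.out.pos, hb⟩).mem_powers_iff_mem_zpowers.2 h1
    refine hind i ?_
    have h2 : b ^ i = a⁻¹ := hi
    rw [h2, mul_inv_cancel]
  have h2 := bound_unitary hsF hF (suHom n F q) (fun x y h => mat_injective h) hr (by
    intro g
    obtain ⟨hq0, f, hf⟩ := exists_frobF hF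
    have h3 := (Cfsg.Agent.H104.RowPSU.mem_SU_iff hf g.1).1 g.2
    have h4 : (fun a : F => a ^ q) = f := by funext a; rw [hf]
    rw [h4]
    exact h3)
  rw [Fintype.card_fin] at h2
  refine ⟨orderOf (negQ F s hsF hF), orderOf_pos _, h2, ?_⟩
  have h3 := congrArg Units.val (pow_orderOf_eq_one (negQ F s hsF hF))
  rw [Units.val_pow_eq_pow_val] at h3
  have h4 : (-(q : ZMod s)) ^ orderOf (negQ F s hsF hF) = 1 := h3
  rw [← ZMod.intCast_zmod_eq_zero_iff_dvd]
  push_cast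
  rw [h4, sub_self]

/-- the statement of the section facts -/
def SecHyp : Prop :=
  ∀ (F : Type) [Field F] [Fintype F] (n q t s e : ℕ) [CharP F t], Fintype.card F = q ^ 2 → 3 ≤ n →
    ¬ (n = 3 ∧ q = 2) → t.Prime → s.Prime → 3 ≤ s → s ≠ t → 1 ≤ e → 2 * e ≤ n → (s : ℤ) ∣ (-(q : ℤ)) ^ e - 1 →
    ∀ (x : MulAut (PSU n F q)) (θ : F ≃+* F) (g : Equiv.Perm (Fin n → F)), (orderOf x).Prime → SI q θ g →
      Ind (pr n F q) (rho n F q) g x → PC s x → SecU q e θ g

/-- **PSU, noncyclic Sylow subgroups**, from the section facts -/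
theorem nr_psu_of (H : SecHyp) {t : ℕ} (ht : t.Prime) {K : Type u} [Group K] [Finite K] (h : IsPSUChar t K) :
    NR t K := by
  obtain ⟨F, iF, iFt, iC, n, q, hF, hn, h32, ⟨e⟩⟩ := h
  intro s r x hs hr hr3 hrs hrK hst hsK hP hx hxs hxr hPC hFC
  have : Fact s.Prime := ⟨hs⟩
  have hfin : Finite (PSU n F q) := Finite.of_surjective _ (pr_surjective (n := n) (F := F) (q := q))
  have hs3 : 3 ≤ s := hr3.trans hrs
  have hsF : (s : F) ≠ 0 := by
    intro h0
    rw [CharP.cast_eq_zero_iff F t] at h0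
    exact hst ((Nat.prime_dvd_prime_iff_eq ht hs).1 h0).symm
  obtain ⟨P⟩ : Nonempty (Sylow s (PSU n F q)) := inferInstance
  have hPc : ¬ IsCyclic P := by
    intro hc
    have hle : (P : Subgroup (PSU n F q)) ≤ e.toMonoidHom.range := by
      intro y _
      exact ⟨e.symm y, e.apply_symm_apply y⟩
    have hc' : IsCyclic (P : Subgroup (PSU n F q)) := hc
    apply hP (P.comapOfInjective e.toMonoidHom e.injective hle)
    change IsCyclic ↥((P : Subgroup (PSU n F q)).comap e.toMonoidHom)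
    refine isCyclic_of_injective (e.toMonoidHom.subgroupComap (P : Subgroup _)) ?_
    intro a b hab
    exact Subtype.ext (e.injective (congrArg Subtype.val hab))
  obtain ⟨d, hd, hN, hdvd⟩ := exists_exponent_u hF (by omega) hsF P hPc
  have hcard : Nat.card (PSU n F q) = Nat.card K := (Nat.card_congr e.toEquiv).symm
  have h3 : n = 3 → s ∣ q + 1 := by
    intro h
    have h1 : d = 1 := by omega
    rw [h1, pow_one] at hdvd
    have h2 : (s : ℤ) ∣ ((q + 1 : ℕ) : ℤ) := by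
      have h4 := (dvd_neg).2 hdvd
      have h5 : -(-(q : ℤ) - 1) = ((q + 1 : ℕ) : ℤ) := by push_cast; ring
      rwa [h5] at h4
    exact_mod_cast h2
  have ho : orderOf (H459.Rad.tr e x) = orderOf x := H459.Rad.orderOf_tr e x
  obtain ⟨θ, g, hg, hi⟩ := exists_lift hF hn h32 (H459.Rad.tr e x)
  exact false_of_sec hF hn h32 ht hs hs3 hst (by rw [hcard]; exact hsK) hd hN h3 (by rw [ho]; exact hx)
    (by rw [ho]; exact hxs) (hPC.tr e) (hFC.eleven.tr e) hg hi
    (H F n q t s d hF hn h32 ht hs hs3 hst hd hN hdvd _ θ g (by rw [ho]; exact hx) hg hi (hPC.tr e))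

end Cfsg.Agent.H533.U
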