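import Cfsg.Agent.H533.U.Semi
import Cfsg.Agent.H383.Pi.GoodSU
import Cfsg.Agent.H957.InvU2

/-!
# The section facts for `PSU_n(q)`: nondegenerate and parabolic sections (helper533, S4324)

`exists_not_inv` : `SU_n(q)` acts irreducibly; `sec_comm` : the section lemma for the sections with an orthonormal basis.
-/

set_option autoImplicit false

namespace Cfsg.Agent.H533.U

open Cfsg Cfsg.Agent.LieClassical.HermBasic Cfsg.Agent.LieClassical.HermSiegel
open Cfsg.Agent.ClassicalGeometry.UnitAutBasic Cfsg.Agent.ClassicalGeometry.PSUAutCount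
open Cfsg.Agent.H957.T5V Cfsg.Agent.H957.T5U Cfsg.Agent.H957.T5Pairs
open Cfsg.Agent.H957.InvU (emb crd emb_add emb_smul emb_sub crd_add crd_sub crd_emb emb_inj herm_emb_right herm_emb
  ext act_ext crd_ext act_ext_emb)
open Cfsg.Agent.H177.MeetPSU (rho rho_apply rho_injective uniq ind_scal ind_yy yy yy_apply)
open Cfsg.Agent.H903.SylSemi (scal scal_apply)
open Cfsg.Agent.H216.Pi (PC)
open Cfsg.Agent.H809.Sec (IsSc PrimeSc SGood SemiGood section_scalar)
open Cfsg.Agent.BpCl (Iso)
open Module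

/-- commuting modulo scalars from commuting modulo a normalised `s'`-group -/
theorem comm_of_good {F W : Type*} [Field F] [AddCommGroup W] [Module F W] {s : ℕ} {Y : Subgroup (W ≃ₗ[F] W)}
    (hG : SGood s Y)
    {R : Subgroup (W ≃ₗ[F] W)} (hRY : ∀ r ∈ R, ∀ y ∈ Y, r * y * r⁻¹ ∈ Y) (hYR : ∀ y ∈ Y, ∀ r ∈ R, y * r * y⁻¹ ∈ R)
    (hR : PrimeSc s R) {g : Equiv.Perm W}
    (h : ∀ y ∈ Y, ∃ r ∈ R, ∀ v, g (y v) = y (r (g v))) : ∀ y ∈ Y, ∃ c : F, ∀ v, g (y v) = c • y (g v) := by
  have h1 : ∀ n ∈ R ⊓ Y, IsSc F (⇑n) := by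
    refine hG.core (R ⊓ Y) inf_le_right ?_ (hR.mono inf_le_left)
    intro y hy n hn
    exact ⟨hYR y hy n hn.1, Y.mul_mem (Y.mul_mem hy hn.2) (Y.inv_mem hy)⟩
  have h2 : ∀ r ∈ R, IsSc F (⇑r) := by
    intro r hr
    apply hG.lin
    intro y hy
    obtain ⟨c, hc⟩ := h1 (r * y * r⁻¹ * y⁻¹) ⟨by
      have h3 : r * y * r⁻¹ * y⁻¹ = r * (y * r⁻¹ * y⁻¹) := by group
      rw [h3]
      exact R.mul_mem hr (hYR y hy _ (R.inv_mem hr)), Y.mul_mem (hRY r hr y hy) (Y.inv_mem hy)⟩
    refine ⟨c, fun v => ?_⟩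
    have h4 := hc (y (r v))
    have h5 : (r * y * r⁻¹ * y⁻¹) (y (r v)) = r (y v) := by
      have : (r * y * r⁻¹ * y⁻¹) * (y * r) = r * y := by group
      have h6 := LinearEquiv.congr_fun this v
      exact h6
    rw [← h5, h4]
  intro y hy
  obtain ⟨r, hr, hr'⟩ := h y hy
  obtain ⟨c, hc⟩ := h2 r hr
  refine ⟨c, fun v => ?_⟩
  rw [hr', hc, map_smul]

/-- **The section lemma**, general form, commuting modulo scalars. -/
theorem section_comm {F W : Type*} [Field F] [AddCommGroup W] [Module F W] {E K : Type*} [Group E] [Group K]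
    [Finite K] {s : ℕ} (hs : s.Prime) (a : E →* K)
    (ha : a.range ≠ ⊤) (ρ : E →* (W ≃ₗ[F] W)) (hker : ∀ z ∈ a.ker, IsSc F (⇑(ρ z))) {x : MulAut K} (hPC : PC s x)
    {g : Equiv.Perm W} (hx : ∀ e : E, ∃ e' : E, x (a e) = a e' ∧ ∀ v, ρ e' (g v) = g (ρ e v))
    {Y : Subgroup (W ≃ₗ[F] W)} (hY : ∀ y ∈ Y, ∃ e, ρ e = y) (hYn : ∀ e, ∀ y ∈ Y, ρ e * y * (ρ e)⁻¹ ∈ Y)
    (hG : SGood s Y) : ∀ y ∈ Y, ∃ c : F, ∀ v, g (y v) = c • y (g v) := by
  have hinv : ∀ m ∈ a.range, x m ∈ a.range := by
    rintro _ ⟨e, rfl⟩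
    obtain ⟨e', h1, -⟩ := hx e
    exact ⟨e', h1.symm⟩
  have key := hPC a.range ha hinv
  obtain ⟨C, hC⟩ : ∃ C, C = Cfsg.Agent.H216.Pi.coreIn s a.range := ⟨_, rfl⟩
  rw [← hC] at key
  have hCc : (Nat.card C).Coprime s := by rw [hC]; exact Cfsg.Agent.H216.Pi.coreIn_coprime _
  refine comm_of_good hG (R := (C.comap a).map ρ) ?_ ?_ ?_ ?_
  · rintro _ ⟨e, -, rfl⟩ y hy
    exact hYn e y hy
  · rintro y hy _ ⟨e, he, rfl⟩
    obtain ⟨f, rfl⟩ := hY y hy
    refine ⟨f * e * f⁻¹, ?_, by rw [map_mul, map_mul, map_inv]⟩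
    rw [SetLike.mem_coe, Subgroup.mem_comap, map_mul, map_mul, map_inv]
    rw [SetLike.mem_coe, Subgroup.mem_comap] at he
    rw [hC] at he ⊢
    exact Cfsg.Agent.H216.Pi.coreIn_conj_mem ⟨f, rfl⟩ he
  · rintro _ ⟨e, he, rfl⟩
    refine ⟨Nat.card C, fun hd => ?_, ?_⟩
    · exact hs.one_lt.ne' (Nat.Coprime.eq_one_of_dvd hCc.symm hd)
    · rw [← map_pow]
      apply hker
      rw [MonoidHom.mem_ker, map_pow]
      have h1 : (⟨a e, he⟩ : C) ^ Nat.card C = 1 := pow_card_eq_one'
      exact congrArg Subtype.val h1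
  · intro y hy
    obtain ⟨e, rfl⟩ := hY y hy
    obtain ⟨e', h1, h2⟩ := hx e
    refine ⟨ρ (e⁻¹ * e'), ⟨e⁻¹ * e', ?_, rfl⟩, fun v => ?_⟩
    · rw [SetLike.mem_coe, Subgroup.mem_comap, map_mul, map_inv, ← h1]
      exact key _ ⟨e, rfl⟩
    · rw [← h2]
      have h3 : ρ e' = ρ e * ρ (e⁻¹ * e') := by rw [← map_mul, mul_inv_cancel_left]
      rw [h3]
      rfl

variable {F : Type} [Field F] [Fintype F] {n k q : ℕ}

/-- `SU_n(q)` acts irreducibly -/
theorem exists_not_inv (hF : Fintype.card F = q ^ 2) (hn : 3 ≤ n) {B : Submodule F (Fin n → F)} (h0 : B ≠ ⊥)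
    (h1 : B ≠ ⊤) : ∃ s : SU n F q, ∃ v ∈ B, act s v ∉ B := by
  classical
  by_contra hcon
  push Not at hcon
  obtain ⟨v, hv, hv0⟩ := B.exists_mem_ne_zero_of_ne_bot h0
  obtain ⟨i, hi⟩ := Function.ne_iff.1 hv0
  have hi' : v i ≠ 0 := hi
  obtain ⟨c, hc, hc1⟩ := Cfsg.Agent.LieClassical.SUBasic.exists_norm_one hF
  have hc0 : c ≠ 0 := by
    rintro rfl
    rw [zero_pow (by omega)] at hc
    exact zero_ne_one hc
  -- diagonal elements
  have hdiag : ∀ j : Fin n, j ≠ i → ∃ D : SU n F q, ∀ (w : Fin n → F), act D w = fun m =>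
      (if m = i then c else if m = j then c⁻¹ else 1) * w m := by
    intro j hj
    have hd1 : ∏ m : Fin n, (if m = i then c else if m = j then c⁻¹ else 1) = 1 := by
      rw [← Finset.mul_prod_erase Finset.univ _ (Finset.mem_univ i), if_pos rfl,
        ← Finset.mul_prod_erase (Finset.univ.erase i) _ (Finset.mem_erase.2 ⟨hj, Finset.mem_univ j⟩), if_neg hj,
        if_pos rfl, Finset.prod_eq_one, mul_one, mul_inv_cancel₀ hc0]
      intro m hm
      rw [Finset.mem_erase, Finset.mem_erase] at hm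
      rw [if_neg hm.2.1, if_neg hm.1]
    have hd2 : ∀ m : Fin n, (if m = i then c else if m = j then c⁻¹ else 1) ^ (q + 1) = 1 := by
      intro m
      split_ifs
      · exact hc
      · rw [inv_pow, hc, inv_one]
      · exact one_pow _
    refine ⟨Cfsg.Agent.LieClassical.SUBasic.suDiag q _ hd1 hd2, fun w => ?_⟩
    funext m
    rw [act_def, mat_def, Cfsg.Agent.LieClassical.SUBasic.coe_suDiag, Matrix.mulVec_diagonal]
  obtain ⟨j, hj⟩ : ∃ j : Fin n, j ≠ i := by
    have : Nontrivial (Fin n) := Fin.nontrivial_iff_two_le.2 (by omega)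
    exact exists_ne i
  obtain ⟨l, hli, hlj⟩ : ∃ l : Fin n, l ≠ i ∧ l ≠ j := by
    by_contra h
    push Not at h
    have h2 : (Finset.univ : Finset (Fin n)) ⊆ {i, j} := by
      intro l _
      rw [Finset.mem_insert, Finset.mem_singleton]
      by_cases hl : l = i
      · exact Or.inl hl
      · exact Or.inr (h l hl)
    have h3 := Finset.card_le_card h2
    rw [Finset.card_univ, Fintype.card_fin] at h3
    have h4 := Finset.card_le_two (a := i) (b := j)
    omega
  obtain ⟨D, hD⟩ := hdiag j hj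
  obtain ⟨D', hD'⟩ := hdiag l hli
  have hw1 : act D v - v ∈ B := B.sub_mem (hcon D v hv) hv
  have hw2 : act D' (act D v - v) - (act D v - v) ∈ B := B.sub_mem (hcon D' _ hw1) hw1
  have hei : Pi.single i 1 ∈ B := by
    have h2 : act D' (act D v - v) - (act D v - v) = ((c - 1) ^ 2 * v i) • (Pi.single i 1 : Fin n → F) := by
      rw [hD' (act D v - v), hD v]
      funext m
      simp only [Pi.sub_apply, Pi.smul_apply, smul_eq_mul]
      by_cases hmi : m = i
      · subst hmi
        rw [if_pos rfl, if_pos rfl, Pi.single_eq_same]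
        ring
      · rw [if_neg hmi, if_neg hmi, Pi.single_eq_of_ne hmi]
        by_cases hmj : m = j
        · rw [if_pos hmj, if_neg (by rw [hmj]; exact hlj.symm)]
          ring
        · rw [if_neg hmj]
          ring
    rw [h2] at hw2
    have h3 : (c - 1) ^ 2 * v i ≠ 0 := mul_ne_zero (pow_ne_zero _ (sub_ne_zero.2 hc1)) hi'
    have h4 := B.smul_mem ((c - 1) ^ 2 * v i)⁻¹ hw2
    rwa [smul_smul, inv_mul_cancel₀ h3, one_smul] at h4
  have hher : ∀ a b : Fin n, hermForm n F q (Pi.single a 1) (Pi.single b 1) = if a = b then 1 else 0 := by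
    intro a b
    rw [herm_single_right hF, one_pow, mul_one, Pi.single_apply]
    simp only [eq_comm]
  have hall : ∀ m : Fin n, (Pi.single m 1 : Fin n → F) ∈ B := by
    intro m
    by_cases hm : m = i
    · rw [hm]; exact hei
    · obtain ⟨z, hzi, hzm⟩ : ∃ z : Fin n, z ≠ i ∧ z ≠ m := by
        by_contra h
        push Not at h
        have h2 : (Finset.univ : Finset (Fin n)) ⊆ {i, m} := by
          intro l _
          rw [Finset.mem_insert, Finset.mem_singleton]
          by_cases hl : l = i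
          · exact Or.inl hl
          · exact Or.inr (h l hl)
        have h3 := Finset.card_le_card h2
        rw [Finset.card_univ, Fintype.card_fin] at h3
        have h4 := Finset.card_le_two (a := i) (b := m)
        omega
      have hne : ∀ a : Fin n, (Pi.single a 1 : Fin n → F) ≠ 0 := by
        intro a h
        have := congrFun h a
        simp at this
      obtain ⟨s, hs⟩ := Cfsg.Agent.H77.Witt.exists_su_ext hF ![Pi.single i 1] ![Pi.single m 1]
        (LinearIndependent.of_subsingleton 0 (hne i)) (LinearIndependent.of_subsingleton 0 (hne m)) (by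
          intro a b
          fin_cases a; fin_cases b
          show hermForm n F q (Pi.single i 1) (Pi.single i 1) = hermForm n F q (Pi.single m 1) (Pi.single m 1)
          rw [hher, hher, if_pos rfl, if_pos rfl]) (z := Pi.single z 1) (by
          rw [hher, if_pos rfl]; exact one_ne_zero) (by
          intro a
          fin_cases a
          show hermForm n F q (Pi.single z 1) (Pi.single m 1) = 0
          rw [hher, if_neg hzm])
      have h2 := hcon s _ hei
      have h3 : act s (Pi.single i 1) = Pi.single m 1 := hs 0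
      rwa [h3] at h2
  apply h1
  rw [eq_top_iff]
  intro w _
  have h2 : w = ∑ m, w m • (Pi.single m 1 : Fin n → F) := by
    funext l
    rw [Finset.sum_apply]
    simp [Pi.single_apply]
  rw [h2]
  exact B.sum_mem fun m _ => B.smul_mem _ (hall m)

/-- the special unitary group of the standard space -/
noncomputable abbrev SUk (F : Type) [Field F] (k q : ℕ) : Subgroup ((Fin k → F) ≃ₗ[F] (Fin k → F)) :=
  Iso (hermForm k F q) ⊓ (LinearEquiv.det (R := F) (M := Fin k → F)).ker

omit [Fintype F] in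
theorem exists_of_SUk {y : (Fin k → F) ≃ₗ[F] (Fin k → F)} (hy : y ∈ SUk F k q) : ∃ A : SU k F q, ∀ v, act A v = y v := by
  obtain ⟨h1, h2⟩ := hy
  obtain ⟨A, hA⟩ := Cfsg.Agent.H177.MeetPSU.exists_su (g := y.toEquiv) ⟨⟨(y : (Fin k → F) →ₗ[F] (Fin k → F)),
    fun v => rfl, by
      have h3 : LinearEquiv.det y = 1 := h2
      have h4 := congrArg Units.val h3
      rwa [LinearEquiv.coe_det] at h4⟩, fun u v => h1 u v⟩
  refine ⟨A, fun v => ?_⟩
  rw [← rho_apply, hA]
  rfl

/-- **The section lemma** for a section with an orthonormal basis. -/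
theorem sec_comm (hF : Fintype.card F = q ^ 2) (hn : 3 ≤ n) {s : ℕ} (hs : s.Prime) {x : MulAut (PSU n F q)}
    (hPC : PC s x) {θ : F ≃+* F} {g : Equiv.Perm (Fin n → F)} (hg : SI q θ g)
    (hi : Cfsg.Agent.H903.SylSemi.Ind (pr n F q) (rho n F q) g x) {b : Fin k → (Fin n → F)}
    (hb : ∀ i j, hermForm n F q (b i) (b j) = if i = j then 1 else 0) {B : Submodule F (Fin n → F)}
    (hbB : ∀ i, b i ∈ B) (hR : ∀ v ∈ B, crd q b v = 0 → ∀ w ∈ B, hermForm n F q v w = 0) (hB1 : B ≠ ⊤)
    (hB : ∀ v ∈ B, g v ∈ B) (hk : 1 ≤ k) (hG : SGood s (SUk F k q)) :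
    ∃ gW : Equiv.Perm (Fin k → F), Cfsg.Agent.BpCl.Semi θ gW ∧ (∀ v ∈ B, crd q b (g v) = gW (crd q b v)) ∧
      (∀ u v, hermForm k F q (gW u) (gW v) = θ (hermForm k F q u v)) ∧
      ∀ y ∈ SUk F k q, ∃ c : F, ∀ v, gW (y v) = c • y (gW v) := by
  classical
  have hfin : Finite (PSU n F q) := Finite.of_surjective _ (pr_surjective (n := n) (F := F) (q := q))
  have hemb : ∀ y, emb b y ∈ B := fun y => B.sum_mem fun i _ => B.smul_mem _ (hbB i)
  have hB0 : B ≠ ⊥ := by
    intro h
    have h1 := hbB ⟨0, hk⟩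
    rw [h, Submodule.mem_bot] at h1
    have h2 := hb ⟨0, hk⟩ ⟨0, hk⟩
    rw [h1, herm_zero_left, if_pos rfl] at h2
    exact zero_ne_one h2
  -- `g` is bijective on `B`
  have hBi : ∀ v, g v ∈ B ↔ v ∈ B := Cfsg.Agent.H952.Rc.inv_iff hB
  have hBs : ∀ v, g.symm v ∈ B ↔ v ∈ B := by
    intro v
    rw [← hBi, Equiv.apply_symm_apply]
  -- the form on `B`
  have hP : ∀ u ∈ B, ∀ v ∈ B, hermForm k F q (crd q b u) (crd q b v) = hermForm n F q u v := by
    intro u hu v hv
    have h1 : ∀ v ∈ B, ∀ w ∈ B, hermForm n F q (v - emb b (crd q b v)) w = 0 := by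
      intro v hv w hw
      refine hR _ (B.sub_mem hv (hemb _)) ?_ w hw
      rw [crd_sub, crd_emb hb, sub_self]
    have h2 := h1 u hu v hv
    have h3 := herm_eq_zero_swap hF (h1 v hv (emb b (crd q b u)) (hemb _))
    rw [herm_sub_left, sub_eq_zero] at h2
    rw [herm_sub_right hF, sub_eq_zero] at h3
    rw [h2, h3, herm_emb hF hb]
  -- the induced map
  let f : (Fin k → F) → (Fin k → F) := fun y => crd q b (g (emb b y))
  have hfh : ∀ u v, hermForm k F q (f u) (f v) = θ (hermForm k F q u v) := by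
    intro u v
    show hermForm k F q (crd q b (g (emb b u))) (crd q b (g (emb b v))) = _
    rw [hP _ (hB _ (hemb u)) _ (hB _ (hemb v)), hg.herm, herm_emb hF hb]
  have hadd : ∀ u v, f (u + v) = f u + f v := by
    intro u v
    show crd q b (g (emb b (u + v))) = _
    rw [emb_add, hg.semi.add, crd_add]
  have hsmul : ∀ (c : F) u, f (c • u) = θ c • f u := by
    intro c u
    show crd q b (g (emb b (c • u))) = _
    rw [emb_smul, hg.semi.smul]
    funext i
    exact herm_smul_left _ _ _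
  have hf0 : f 0 = 0 := by
    have := hsmul 0 0
    rwa [zero_smul, map_zero, zero_smul] at this
  have hinj : Function.Injective f := by
    intro u v huv
    have h1 : f (u - v) = 0 := by
      have h2 := hadd (u - v) v
      rw [sub_add_cancel, huv] at h2
      exact right_eq_add.1 h2
    have h3 : u - v = 0 := by
      apply herm_nondeg hF
      intro w
      apply θ.injective
      rw [← hfh, h1, herm_zero_left, map_zero]
    exact sub_eq_zero.1 h3
  let gW : Equiv.Perm (Fin k → F) := Equiv.ofBijective f (Finite.injective_iff_bijective.1 hinj)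
  have hgW : ∀ v, gW v = f v := fun v => rfl
  have hsW : Cfsg.Agent.BpCl.Semi θ gW := ⟨hadd, hsmul⟩
  have hcrd : ∀ v ∈ B, crd q b (g v) = gW (crd q b v) := by
    intro v hv
    have h1 : v = (v - emb b (crd q b v)) + emb b (crd q b v) := by abel
    have h2 : crd q b (g (v - emb b (crd q b v))) = 0 := by
      funext i
      show hermForm n F q (g (v - emb b (crd q b v))) (b i) = 0
      have h3 : b i = g (g.symm (b i)) := (g.apply_symm_apply _).symm
      rw [h3, hg.herm, hR _ (B.sub_mem hv (hemb _)) (by rw [crd_sub, crd_emb hb, sub_self]) _ ((hBs _).2 (hbB i)),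
        map_zero]
    conv_lhs => rw [h1]
    rw [hg.semi.add, crd_add, h2, zero_add]
    rfl
  refine ⟨gW, hsW, hcrd, hfh, ?_⟩
  -- the group `E`
  let E : Subgroup (SU n F q × ((Fin k → F) ≃ₗ[F] (Fin k → F))) :=
    { carrier := {e | (∀ v, act e.1 v ∈ B ↔ v ∈ B) ∧ ∀ v ∈ B, crd q b (act e.1 v) = e.2 (crd q b v)}
      mul_mem' := by
        rintro ⟨a, S⟩ ⟨c, T⟩ ⟨h1, h2⟩ ⟨h3, h4⟩
        refine ⟨fun v => ?_, fun v hv => ?_⟩
        · show act (a * c) v ∈ B ↔ v ∈ B
          rw [act_mul]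
          exact (h1 _).trans (h3 v)
        · show crd q b (act (a * c) v) = S (T (crd q b v))
          rw [act_mul]
          exact (h2 _ ((h3 v).2 hv)).trans (congrArg S (h4 v hv))
      one_mem' := ⟨fun v => by show act 1 v ∈ B ↔ v ∈ B; rw [act_one], fun v _ => by
        show crd q b (act 1 v) = crd q b v
        rw [act_one]⟩
      inv_mem' := by
        rintro ⟨a, S⟩ ⟨h1, h2⟩
        have h3 : ∀ v, act a⁻¹ v ∈ B ↔ v ∈ B := by
          intro v
          have h4 := h1 (act a⁻¹ v)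
          change act a (act a⁻¹ v) ∈ B ↔ _ at h4
          rw [act_act_inv] at h4
          exact h4.symm
        refine ⟨h3, fun v hv => ?_⟩
        have h4 := h2 (act a⁻¹ v) ((h3 v).2 hv)
        change crd q b (act a (act a⁻¹ v)) = S (crd q b (act a⁻¹ v)) at h4
        rw [act_act_inv] at h4
        show crd q b (act a⁻¹ v) = S.symm (crd q b v)
        rw [h4, S.symm_apply_apply] }
  let a : E →* PSU n F q := (pr n F q).comp ((MonoidHom.fst _ _).comp E.subtype)
  let ρ : E →* ((Fin k → F) ≃ₗ[F] (Fin k → F)) := (MonoidHom.snd _ _).comp E.subtype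
  refine section_comm hs a ?_ ρ ?_ hPC ?_ ?_ ?_ hG
  · -- proper
    intro htop
    obtain ⟨w, v, hv, hwv⟩ := exists_not_inv hF hn hB0 hB1
    have h1 : pr n F q w ∈ a.range := by rw [htop]; trivial
    obtain ⟨e, he⟩ := h1
    have he' : pr n F q e.1.1 = pr n F q w := he
    obtain ⟨c, -, hc⟩ := exists_scalar_of_pr_eq hF hn he'
    apply hwv
    rw [hc]
    exact B.smul_mem _ ((e.2.1 v).2 hv)
  · intro z hz
    have h1 : pr n F q (1 : SU n F q) = pr n F q z.1.1 := by
      rw [map_one]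
      exact (MonoidHom.mem_ker.1 hz).symm
    obtain ⟨c, -, hc⟩ := exists_scalar_of_pr_eq hF hn h1
    refine ⟨c, fun v => ?_⟩
    show z.1.2 v = c • v
    have h2 := z.2.2 (emb b v) (hemb v)
    rw [crd_emb hb] at h2
    rw [← h2, hc, act_one]
    funext i
    show hermForm n F q (c • emb b v) (b i) = c * v i
    rw [herm_smul_left]
    congr 1
    exact congrFun (crd_emb hb v) i
  · intro e
    obtain ⟨w, h1, h2⟩ := hi e.1.1
    have h3 : ∀ v, act w v = g (act e.1.1 (g.symm v)) := by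
      intro v
      rw [← rho_apply w, h1]
      rfl
    -- the induced linear map
    let T : (Fin k → F) ≃ₗ[F] (Fin k → F) :=
      { toFun := fun w => gW (e.1.2 (gW.symm w))
        invFun := fun w => gW (e.1.2.symm (gW.symm w))
        map_add' := by
          intro u v
          have hs : gW.symm (u + v) = gW.symm u + gW.symm v := by
            apply gW.injective
            rw [hsW.add, gW.apply_symm_apply, gW.apply_symm_apply, gW.apply_symm_apply]
          rw [hs, map_add, hsW.add]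
        map_smul' := by
          intro c v
          have hs : gW.symm (c • v) = θ.symm c • gW.symm v := by
            apply gW.injective
            rw [hsW.smul, gW.apply_symm_apply, gW.apply_symm_apply, θ.apply_symm_apply]
          rw [hs, map_smul, hsW.smul, θ.apply_symm_apply, RingHom.id_apply]
        left_inv := fun w => by
          change gW (e.1.2.symm (gW.symm (gW (e.1.2 (gW.symm w))))) = w
          rw [gW.symm_apply_apply, LinearEquiv.symm_apply_apply, gW.apply_symm_apply]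
        right_inv := fun w => by
          change gW (e.1.2 (gW.symm (gW (e.1.2.symm (gW.symm w))))) = w
          rw [gW.symm_apply_apply, LinearEquiv.apply_symm_apply, gW.apply_symm_apply] }
    have hT : ((w, T) : SU n F q × ((Fin k → F) ≃ₗ[F] (Fin k → F))) ∈ E := by
      refine ⟨fun v => ?_, fun v hv => ?_⟩
      · show act w v ∈ B ↔ v ∈ B
        rw [h3, hBi, e.2.1, hBs]
      · show crd q b (act w v) = gW (e.1.2 (gW.symm (crd q b v)))
        have h4 : crd q b v = gW (crd q b (g.symm v)) := by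
          rw [← hcrd _ ((hBs v).2 hv), g.apply_symm_apply]
        rw [h3, hcrd _ ((e.2.1 _).2 ((hBs v).2 hv)), e.2.2 _ ((hBs v).2 hv), h4, gW.symm_apply_apply]
    refine ⟨⟨(w, T), hT⟩, h2, fun v => ?_⟩
    show gW (e.1.2 (gW.symm (gW v))) = gW (e.1.2 v)
    rw [gW.symm_apply_apply]
  · intro y hy
    obtain ⟨A, hA⟩ := exists_of_SUk hy
    have hmem : ((ext hF hb A, y) : SU n F q × ((Fin k → F) ≃ₗ[F] (Fin k → F))) ∈ E := by
      refine ⟨fun v => ?_, fun v _ => ?_⟩
      · show act (ext hF hb A) v ∈ B ↔ v ∈ B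
        rw [act_ext]
        exact B.add_mem_iff_left (hemb _)
      · show crd q b (act (ext hF hb A) v) = y (crd q b v)
        rw [crd_ext, hA]
    exact ⟨⟨_, hmem⟩, rfl⟩
  · intro e y hy
    have hT : ∀ u v, hermForm k F q (e.1.2 u) (e.1.2 v) = hermForm k F q u v := by
      intro u v
      have h1 : ∀ u, e.1.2 u = crd q b (act e.1.1 (emb b u)) := fun u => by
        rw [e.2.2 _ (hemb u), crd_emb hb]
      rw [h1, h1, hP _ ((e.2.1 _).2 (hemb u)) _ ((e.2.1 _).2 (hemb v)), herm_act, herm_emb hF hb]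
    refine ⟨?_, ?_⟩
    · exact (Iso (hermForm k F q)).mul_mem ((Iso (hermForm k F q)).mul_mem hT hy.1) ((Iso (hermForm k F q)).inv_mem hT)
    · show LinearEquiv.det (ρ e * y * (ρ e)⁻¹) = 1
      have h1 : LinearEquiv.det y = 1 := hy.2
      rw [map_mul, map_mul, h1, mul_one, map_inv, mul_inv_cancel]

end Cfsg.Agent.H533.U
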