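import Cfsg.Agent.H533.U.Sec
import Cfsg.Agent.H533.U.Row

/-!
# The section facts for `PSU_n(q)`: `hns` and `hpt` (helper533, S4324)
-/

set_option autoImplicit false

namespace Cfsg.Agent.H533.U

open Cfsg Cfsg.Agent.LieClassical.HermBasic Cfsg.Agent.LieClassical.HermSiegel
open Cfsg.Agent.ClassicalGeometry.UnitAutBasic Cfsg.Agent.ClassicalGeometry.PSUAutCount
open Cfsg.Agent.H957.T5V Cfsg.Agent.H957.T5U Cfsg.Agent.H957.T5Pairs
open Cfsg.Agent.H957.InvU (emb crd emb_add emb_smul emb_sub crd_add crd_sub crd_emb emb_inj herm_emb_right herm_emb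
  ext act_ext crd_ext act_ext_emb)
open Cfsg.Agent.H177.MeetPSU (rho rho_apply)
open Cfsg.Agent.H216.Pi (PC)
open Cfsg.Agent.H809.Sec (IsSc PrimeSc SGood SemiGood)
open Cfsg.Agent.BpCl (Iso)
open Cfsg.Agent.H77.Geom (perp mem_perp mem_perp_singleton mem_perp_pair finrank_perp)
open Cfsg.Agent.H63.GU (PTs)
open Module

variable {F : Type} [Field F] [Fintype F] {n k q : ℕ}

/-- the induced map is a scalar -/
theorem isSc_gW (hF : Fintype.card F = q ^ 2) (hk : 2 ≤ k) {θ : F ≃+* F} {gW : Equiv.Perm (Fin k → F)}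
    (hs : Cfsg.Agent.BpCl.Semi θ gW) (hh : ∀ u v, hermForm k F q (gW u) (gW v) = θ (hermForm k F q u v))
    (hc : ∀ y ∈ SUk F k q, ∃ c : F, ∀ v, gW (y v) = c • y (gW v))
    (h : θ = 1 ∨ 3 ≤ k ∨ ∃ w : Fin k → F, hermForm k F q w w ≠ 0 ∧ ∃ a : F, gW w = a • w) : IsSc F ⇑gW := by
  have hcF : Nat.card F = q ^ 2 := by rw [Nat.card_eq_fintype_card, hF]
  rcases h with h | h | ⟨w, hw, hgw⟩
  · subst h
    let L : (Fin k → F) ≃ₗ[F] (Fin k → F) :=
      { gW with
        map_add' := hs.add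
        map_smul' := hs.smul }
    exact Cfsg.Agent.H383.Pi.lin_su hcF herm_add_left herm_smul_left (fun u v => herm_swap hF u v)
      (fun u h => herm_nondeg hF h) (by rwa [finrank_fin_fun]) L hc
  · exact Cfsg.Agent.H383.Pi.semiGood_su hcF herm_add_left herm_smul_left (fun u v => herm_swap hF u v)
      (fun u h => herm_nondeg hF h) (by rwa [finrank_fin_fun]) θ gW hs hc
  · rcases Nat.lt_or_ge 2 k with h3 | h3
    · exact Cfsg.Agent.H383.Pi.semiGood_su hcF herm_add_left herm_smul_left (fun u v => herm_swap hF u v)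
        (fun u h => herm_nondeg hF h) (by rwa [finrank_fin_fun]) θ gW hs hc
    · exact Cfsg.Agent.H383.Pi.su_two_semi' hcF herm_add_left herm_smul_left (fun u v => herm_swap hF u v)
        (fun u h => herm_nondeg hF h) (by rw [finrank_fin_fun]; omega) hs (c := 1)
        (fun u v => by rw [one_mul]; exact hh u v) hc hw hgw

/-- orthonormal bases of nondegenerate subspaces -/
theorem exists_onb_sub (hF : Fintype.card F = q ^ 2) {W : Submodule F (Fin n → F)}
    (hW : ∀ u ∈ W, (∀ v ∈ W, hermForm n F q u v = 0) → u = 0) (hk : finrank F W = k) :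
    ∃ b : Fin k → (Fin n → F), (∀ i j, hermForm n F q (b i) (b j) = if i = j then 1 else 0) ∧ (∀ i, b i ∈ W) ∧
      ∀ v ∈ W, emb b (crd q b v) = v := by
  classical
  have hcF : Nat.card F = q ^ 2 := by rw [Nat.card_eq_fintype_card, hF]
  obtain ⟨e, he⟩ := Cfsg.Agent.H383.Pi.exists_coordU (W := W) (h := fun u v : W => hermForm n F q u v) hcF
    (fun u v w => herm_add_left _ _ _) (fun a u v => herm_smul_left _ _ _) (fun u v => herm_swap hF _ _)
    (fun u h => Subtype.ext (hW u u.2 fun v hv => h ⟨v, hv⟩)) hk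
  have hb : ∀ i j : Fin k, hermForm n F q ((e (Pi.single i 1) : W) : Fin n → F) ((e (Pi.single j 1) : W) : Fin n → F) =
      if i = j then 1 else 0 := by
    intro i j
    have h1 := he (Pi.single i 1) (Pi.single j 1)
    rw [h1, herm_single_right hF, one_pow, mul_one, Pi.single_apply]
    simp only [eq_comm]
  refine ⟨fun i => ((e (Pi.single i 1) : W) : Fin n → F), hb, fun i => (e _).2, fun v hv => ?_⟩
  have h1 : ∀ y : Fin k → F, emb (fun i => ((e (Pi.single i 1) : W) : Fin n → F)) y = ((e y : W) : Fin n → F) := by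
    intro y
    have h2 : y = ∑ i, y i • (Pi.single i 1 : Fin k → F) := by
      funext l
      rw [Finset.sum_apply]
      simp [Pi.single_apply]
    conv_rhs => rw [h2, map_sum, Submodule.coe_sum]
    unfold emb
    exact Finset.sum_congr rfl fun i _ => by rw [map_smul]; rfl
  have h2 : v = emb (fun i => ((e (Pi.single i 1) : W) : Fin n → F)) (e.symm ⟨v, hv⟩) := by
    rw [h1, e.apply_symm_apply]
  conv_lhs => rw [h2]
  rw [crd_emb hb, ← h2]

/-- **hns** -/
theorem hns_u (hF : Fintype.card F = q ^ 2) (hn : 3 ≤ n) {s e : ℕ} (hs : s.Prime) (hs3 : 3 ≤ s) (he : 1 ≤ e)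
    (hd : (s : ℤ) ∣ (-(q : ℤ)) ^ e - 1) {x : MulAut (PSU n F q)} (hPC : PC s x) {θ : F ≃+* F}
    {g : Equiv.Perm (Fin n → F)} (hg : SI q θ g) (hi : Cfsg.Agent.H903.SylSemi.Ind (pr n F q) (rho n F q) g x)
    (W : Submodule F (Fin n → F)) (hW : ∀ u ∈ W, (∀ v ∈ W, hermForm n F q u v = 0) → u = 0)
    (hgW : ∀ v ∈ W, g v ∈ W) (hW1 : W ≠ ⊤) (h2 : 2 ≤ finrank F W) (heW : e ≤ finrank F W)
    (h : θ = 1 ∨ 3 ≤ finrank F W ∨ ∃ w ∈ W, hermForm n F q w w ≠ 0 ∧ ∃ a : F, g w = a • w) :
    ∃ a : F, ∀ v ∈ W, g v = a • v := by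
  have hcF : Nat.card F = q ^ 2 := by rw [Nat.card_eq_fintype_card, hF]
  obtain ⟨k, hk⟩ : ∃ k, finrank F W = k := ⟨_, rfl⟩
  rw [hk] at h2 heW h
  obtain ⟨b, hb, hbW, hWb⟩ := exists_onb_sub hF hW hk
  have hG : SGood s (SUk F k q) := Cfsg.Agent.H383.Pi.sgood_su hcF herm_add_left herm_smul_left
    (fun u v => herm_swap hF u v) (fun u h => herm_nondeg hF h) hs hs3 (by rwa [finrank_fin_fun]) he
    (by rwa [finrank_fin_fun]) hd
  obtain ⟨gW, g1, g2, g3, g4⟩ := sec_comm hF hn hs hPC hg hi hb hbW (fun v hv hv0 w _ => by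
    have h1 := hWb v hv
    rw [hv0] at h1
    have h3 : emb b (0 : Fin k → F) = 0 := by
      unfold emb
      simp
    rw [h3] at h1
    rw [← h1, herm_zero_left]) hW1 hgW (by omega) hG
  obtain ⟨c, hc⟩ := isSc_gW hF h2 g1 g3 g4 (by
    rcases h with h | h | ⟨w, hw, hww, a, ha⟩
    · exact Or.inl h
    · exact Or.inr (Or.inl h)
    · refine Or.inr (Or.inr ⟨crd q b w, ?_, a, ?_⟩)
      · rw [← herm_emb hF hb, hWb w hw]
        exact hww
      · rw [← g2 w hw, ha]
        funext i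
        exact herm_smul_left _ _ _)
  refine ⟨c, fun v hv => ?_⟩
  rw [← hWb _ (hgW v hv), g2 v hv, hc, emb_smul, hWb v hv]

theorem exists_hyp (hF : Fintype.card F = q ^ 2) {v : Fin n → F} (hv : v ≠ 0) (hvv : hermForm n F q v v = 0) :
    ∃ w, hermForm n F q v w = 1 ∧ hermForm n F q w w = 0 := by
  obtain ⟨y, hy⟩ := exists_herm_ne_zero hF hv
  obtain ⟨z, hz⟩ : ∃ z, hermForm n F q v z = 1 := by
    refine ⟨((hermForm n F q v y)⁻¹) ^ q • y, ?_⟩
    rw [herm_smul_right, pow_q_pow_q hF, inv_mul_cancel₀ hy]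
  have hzv : hermForm n F q z v = 1 := by rw [herm_swap hF v z, hz, one_pow]
  obtain ⟨l, hl⟩ := exists_trace_eq hF (c := -hermForm n F q z z) (by rw [neg_pow_q hF, herm_self_pow hF])
  refine ⟨z + l • v, ?_, ?_⟩
  · rw [herm_add_right hF, herm_smul_right, hvv, hz, mul_zero, add_zero]
  · rw [herm_add_left, herm_add_right hF, herm_add_right hF, herm_smul_left, herm_smul_left, herm_smul_right,
      herm_smul_right, hvv, hz, hzv]
    linear_combination hl

/-- **hpt** -/
theorem hpt_u (hF : Fintype.card F = q ^ 2) (hn : 4 ≤ n) {s e : ℕ} (hs : s.Prime) (hs3 : 3 ≤ s) (he : 1 ≤ e)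
    (hN : 2 * e ≤ n) (hd : (s : ℤ) ∣ (-(q : ℤ)) ^ e - 1) {x : MulAut (PSU n F q)} (hPC : PC s x)
    {g : Equiv.Perm (Fin n → F)} (hg : SI q (1 : F ≃+* F) g)
    (hi : Cfsg.Agent.H903.SylSemi.Ind (pr n F q) (rho n F q) g x)
    {v : Fin n → F} (hv : v ≠ 0) (hvv : hermForm n F q v v = 0) (ha : ∃ a : F, g v = a • v) :
    PTs (hermForm n F q) g v := by
  have hcF : Nat.card F = q ^ 2 := by rw [Nat.card_eq_fintype_card, hF]
  obtain ⟨a, ha⟩ := ha
  obtain ⟨w, hvw, hww⟩ := exists_hyp hF hv hvv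
  have hwv : hermForm n F q w v = 1 := by rw [herm_swap hF v w, hvw, one_pow]
  -- the orthogonal of the hyperbolic plane
  have hproj : ∀ y : Fin n → F, y - hermForm n F q y w • v - hermForm n F q y v • w ∈ perp q {v, w} := by
    intro y
    rw [mem_perp_pair]
    constructor
    · rw [herm_sub_left, herm_sub_left, herm_smul_left, herm_smul_left, hvv, hwv]
      ring
    · rw [herm_sub_left, herm_sub_left, herm_smul_left, herm_smul_left, hvw, hww]
      ring
  have hU : ∀ u ∈ perp q {v, w}, (∀ y ∈ perp q {v, w}, hermForm n F q u y = 0) → u = 0 := by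
    intro u hu h
    apply herm_nondeg hF
    intro y
    have h1 := h _ (hproj y)
    rw [mem_perp_pair] at hu
    rw [herm_sub_right hF, herm_sub_right hF, herm_smul_right, herm_smul_right, hu.1, hu.2, mul_zero, mul_zero,
      sub_zero, sub_zero] at h1
    exact h1
  have hli : LinearIndependent F ![v, w] := by
    rw [LinearIndependent.pair_iff]
    intro c d hcd
    have h1 := congrArg (fun y => hermForm n F q y w) hcd
    simp only [herm_add_left, herm_smul_left, hvw, hww, herm_zero_left] at h1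
    have h2 := congrArg (fun y => hermForm n F q y v) hcd
    simp only [herm_add_left, herm_smul_left, hvv, hwv, herm_zero_left] at h2
    constructor
    · simpa using h1
    · simpa using h2
  have hdim : finrank F (perp q {v, w}) = n - 2 := by
    have h1 := finrank_perp (q := q) hF hli
    rw [Cfsg.Agent.H77.Geom.range_pair] at h1
    omega
  obtain ⟨b, hb, hbU, hUb⟩ := exists_onb_sub hF hU hdim
  have hG : SGood s (SUk F (n - 2) q) := Cfsg.Agent.H383.Pi.sgood_su hcF herm_add_left herm_smul_left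
    (fun u v => herm_swap hF u v) (fun u h => herm_nondeg hF h) hs hs3 (by rw [finrank_fin_fun]; omega) he
    (by rw [finrank_fin_fun]; omega) hd
  have hker : ∀ y ∈ perp q {v}, crd q b y = 0 → y = hermForm n F q y w • v := by
    intro y hy hy0
    rw [mem_perp_singleton] at hy
    have h1 := hproj y
    rw [hy, zero_smul, sub_zero] at h1
    have h2 : crd q b (y - hermForm n F q y w • v) = 0 := by
      rw [crd_sub, hy0, zero_sub, neg_eq_zero]
      funext i
      show hermForm n F q (hermForm n F q y w • v) (b i) = 0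
      rw [herm_smul_left, herm_eq_zero_swap hF (mem_perp_pair.1 (hbU i)).1, mul_zero]
    have h3 := hUb _ h1
    rw [h2] at h3
    have h4 : emb b (0 : Fin (n - 2) → F) = 0 := by
      unfold emb
      simp
    rw [h4] at h3
    exact (sub_eq_zero.1 h3.symm)
  have hB1 : perp q {v} ≠ ⊤ := by
    intro h
    have h1 : w ∈ perp q {v} := by rw [h]; trivial
    rw [mem_perp_singleton, hwv] at h1
    exact one_ne_zero h1
  obtain ⟨gW, g1, g2, g3, g4⟩ := sec_comm hF (by omega) hs hPC hg hi hb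
    (fun i => mem_perp_singleton.2 (mem_perp_pair.1 (hbU i)).1) (fun y hy hy0 z hz => by
      rw [hker y hy hy0, herm_smul_left, herm_eq_zero_swap hF (mem_perp_singleton.1 hz), mul_zero]) hB1
    (perp_inv hF hg ha hv) (by omega) hG
  obtain ⟨c, hc⟩ := isSc_gW hF (by omega) g1 g3 g4 (Or.inl rfl)
  refine ⟨c, fun y hy => ?_⟩
  have hyB : y ∈ perp q {v} := mem_perp_singleton.2 (herm_eq_zero_swap hF hy)
  have h1 := hker (g y - c • y) ((perp q {v}).sub_mem (perp_inv hF hg ha hv y hyB) ((perp q {v}).smul_mem _ hyB)) (by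
    rw [crd_sub, g2 y hyB, hc, sub_eq_zero]
    funext i
    exact (herm_smul_left _ _ _).symm)
  exact ⟨_, by rw [← h1]; abel⟩

end Cfsg.Agent.H533.U
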